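import Groth.Agent.DiagQcLib.Top
import Groth.Agent.UCValLib.Spec
import Groth.Agent.MonoQcLib.Qc
import Groth.Agent.AlgSpLib.ImmLocal

/-!
# Quasi-compactness of the diagonal from automorphisms and generic isomorphisms
-/

set_option autoImplicit false
set_option backward.isDefEq.respectTransparency false
set_option backward.isDefEq.respectTransparency.types false

universe u

open CategoryTheory CategoryTheory.Limits AlgebraicGeometry Opposite AlgSp FibCat FibLib AlgSpLib AlgStLib Topology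

noncomputable section

namespace DiagQcLib

variable {S : Scheme.{u}} {𝒳 : AlgSt.Cat S}

/-- Automorphism spaces over affine schemes are quasi-compact. -/
def AutQc (𝒳 : AlgSt.Cat S) : Prop :=
  ∀ (U : Over S), IsAffine U.left → ∀ (x : FibCat.overCat U ⥤ᵇ 𝒳),
      ∃ (F : AlgSp.Space S) (e : AlgSt.ofSp F.obj ⥤ᵇ FibCat.fp (FibCat.fpLift x x (Iso.refl _)) (FibCat.diag (FibCat.toSelf 𝒳))),
        FibCat.IsEquivOver e ∧
          AlgSp.IsQuasiCompactMor (AlgSt.spMapOfOver (BasedFunctor.comp e (FibCat.fpFst _ _)))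

/-- Objects isomorphic at a dense set of points are isomorphic on a dense open subscheme. -/
def GenericIso (𝒳 : AlgSt.Cat S) : Prop :=
  ∀ (U : Over S), IsAffine U.left → IsIntegral U.left → ∀ (x y : FibCat.overCat U ⥤ᵇ 𝒳)
      (D : Set ↥U.left), Dense D →
      (∀ t ∈ D, ∃ (L : Type u) (_ : Field L) (g : Spec (CommRingCat.of L) ⟶ U.left), Set.range g.base = {t} ∧
        Nonempty (BasedFunctor.comp (AlgSt.overMap (Over.homMk g rfl : Over.mk (g ≫ U.hom) ⟶ U)) x ≅
          BasedFunctor.comp (AlgSt.overMap (Over.homMk g rfl : Over.mk (g ≫ U.hom) ⟶ U)) y)) →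
      ∃ V : U.left.Opens, Dense (V : Set ↥U.left) ∧
        Nonempty (BasedFunctor.comp (AlgSt.overMap (Over.homMk V.ι rfl : Over.mk (V.ι ≫ U.hom) ⟶ U)) x ≅
          BasedFunctor.comp (AlgSt.overMap (Over.homMk V.ι rfl : Over.mk (V.ι ≫ U.hom) ⟶ U)) y)

variable {O : Over S} (z : overCat O ⥤ᵇ (fp (toSelf 𝒳) (toSelf 𝒳)))

/-- Over a point of the base change of the diagonal the two objects are isomorphic. -/
theorem iso_of_section {H : Sp S} {a : H ⟶ (yon S).obj O}
    (hal : Along (BasedFunctor.comp (AlgSt.toOverCat O) z) (FibCat.diag (FibCat.toSelf 𝒳)) a.hom)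
    {T : Over S} (ξ : (yon S).obj T ⟶ H) (k : T ⟶ O) (hk : ξ ≫ a = (yon S).map k) :
    Nonempty (BasedFunctor.comp (AlgSt.overMap k) (BasedFunctor.comp z (FibCat.fpFst _ _)) ≅
      BasedFunctor.comp (AlgSt.overMap k) (BasedFunctor.comp z (FibCat.fpSnd _ _))) := by
  obtain ⟨e, -, ⟨β⟩⟩ := hal
  let u := BasedFunctor.comp (AlgSt.toOverCat O) z
  let v := BasedFunctor.comp e (FibCat.fpSnd u (FibCat.diag (FibCat.toSelf 𝒳)))
  let τ : BasedFunctor.comp (AlgSt.ofSpMap a) u ≅ BasedFunctor.comp v (FibCat.diag (FibCat.toSelf 𝒳)) :=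
    whiskerRightIso' β.symm u ≪≫ whiskerLeftIso' e (fpIso u (FibCat.diag (FibCat.toSelf 𝒳)))
  let σ : BasedFunctor.comp (BasedFunctor.comp (AlgSt.ofSpMap a) u) (FibCat.fpFst _ _) ≅
      BasedFunctor.comp (BasedFunctor.comp (AlgSt.ofSpMap a) u) (FibCat.fpSnd _ _) :=
    whiskerRightIso' τ (FibCat.fpFst _ _) ≪≫ (whiskerRightIso' τ (FibCat.fpSnd _ _)).symm
  have e1 : BasedFunctor.comp (BasedFunctor.comp (AlgSt.ofOverCat T) (AlgSt.ofSpMap ξ))
      (BasedFunctor.comp (AlgSt.ofSpMap a) (AlgSt.toOverCat O)) = AlgSt.overMap k := by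
    have : AlgSt.ofSpMap ((yon S).map k) = BasedFunctor.comp (AlgSt.ofSpMap ξ) (AlgSt.ofSpMap a) := by
      rw [← hk]; rfl
    change BasedFunctor.comp (AlgSt.ofOverCat T)
      (BasedFunctor.comp (BasedFunctor.comp (AlgSt.ofSpMap ξ) (AlgSt.ofSpMap a)) (AlgSt.toOverCat O)) = _
    rw [← this]
    rfl
  rw [← e1]
  exact ⟨whiskerLeftIso' (BasedFunctor.comp (AlgSt.ofOverCat T) (AlgSt.ofSpMap ξ)) σ⟩

/-- The space of isomorphisms is quasi-compact where the two objects are isomorphic. -/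
theorem compactSpace_of_iso [IsFibGrpd 𝒳.p] (hi : AutQc 𝒳) {T : Over S} [IsAffine T.left] (j : T ⟶ O)
    (α : BasedFunctor.comp (AlgSt.overMap j) (BasedFunctor.comp z (FibCat.fpFst _ _)) ≅
      BasedFunctor.comp (AlgSt.overMap j) (BasedFunctor.comp z (FibCat.fpSnd _ _)))
    {H : Sp S} {a : H ⟶ (yon S).obj T}
    (hal : Along (BasedFunctor.comp (AlgSt.toOverCat T) (BasedFunctor.comp (AlgSt.overMap j) z))
      (FibCat.diag (FibCat.toSelf 𝒳)) a.hom) : CompactSpace (Points H) := by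
  haveI := full_id (fp (toSelf 𝒳) (toSelf 𝒳))
  haveI := faithful_id (fp (toSelf 𝒳) (toSelf 𝒳))
  let x : overCat T ⥤ᵇ 𝒳 := BasedFunctor.comp (AlgSt.overMap j) (BasedFunctor.comp z (FibCat.fpFst _ _))
  obtain ⟨F, e, he, hq⟩ := hi T inferInstance x
  let L : overCat T ⥤ᵇ (fp (toSelf 𝒳) (toSelf 𝒳)) := FibCat.fpLift x x (Iso.refl _)
  let ε : L ≅ BasedFunctor.comp (AlgSt.overMap j) z :=
    fpToSelfIsoExt L (BasedFunctor.comp (AlgSt.overMap j) z) (Iso.refl _) α
  let M : fp L (FibCat.diag (FibCat.toSelf 𝒳)) ⥤ᵇ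
      fp (BasedFunctor.comp (AlgSt.toOverCat T) L) (FibCat.diag (FibCat.toSelf 𝒳)) :=
    fpMap (a := AlgSt.ofOverCat T) (b := BasedFunctor.id 𝒳) (c := BasedFunctor.id (fp (toSelf 𝒳) (toSelf 𝒳)))
      (F := BasedFunctor.comp (AlgSt.toOverCat T) L) (G := FibCat.diag (FibCat.toSelf 𝒳))
      (F' := L) (G' := FibCat.diag (FibCat.toSelf 𝒳)) (Iso.refl _) (Iso.refl _)
  have hM : IsEquivOver M := isEquivOver_fpMap _ _ (isEquivOver_ofOverCat T) (isEquivOver_id _)
  have h0 : Along (BasedFunctor.comp (AlgSt.toOverCat T) L) (FibCat.diag (FibCat.toSelf 𝒳))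
      (AlgSt.spMapOfOver (BasedFunctor.comp e (FibCat.fpFst _ _))).hom :=
    ⟨BasedFunctor.comp e M, isEquivOver_comp he hM,
      (spMapOfOver_eq_iff (BasedFunctor.comp e (FibCat.fpFst _ _)) _).mp rfl⟩
  obtain ⟨i, -⟩ := along_hom_unique (h0.congr (whiskerLeftIso' (AlgSt.toOverCat T) ε) (Iso.refl _)) hal
  have hF : IsQuasiCompactSp F.obj :=
    hq (IsAlgSpace.yon_obj T) (isQuasiCompactSp_yon T) (𝟙 _) (𝟙 F.obj) (AlgSt.spMapOfOver (BasedFunctor.comp e (FibCat.fpFst _ _))) (IsPullback.of_horiz_isIso ⟨by simp⟩)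
  haveI := compactSpace_points_of_isQuasiCompactSp hF
  refine ⟨?_⟩
  have hs : Function.Surjective (Points.map i.hom) := fun q =>
    ⟨Points.map i.inv q, by rw [← Points.map_comp, Iso.inv_hom_id, Points.map_id]⟩
  exact hs.range_eq ▸ isCompact_range (Points.continuous_map i.hom)

/-- The space of isomorphisms over a Noetherian affine scheme is quasi-compact. -/
theorem compactSpace_of_along [IsFibGrpd 𝒳.p] (hi : AutQc 𝒳) (hii : GenericIso 𝒳) [IsAffine O.left]
    [IsNoetherianRing Γ(O.left, ⊤)] {H : Sp S} {a : H ⟶ (yon S).obj O}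
    (hal : Along (BasedFunctor.comp (AlgSt.toOverCat O) z) (FibCat.diag (FibCat.toSelf 𝒳)) a.hom) :
    CompactSpace (Points H) := by
  let φ : Points H → O.left := fun q => Points.toScheme O (Points.map a q)
  refine compactSpace_of_generic (R := Γ(O.left, ⊤)) (fun q => O.left.isoSpec.hom (φ q)) fun p hp => ?_
  let A : Type u := Γ(O.left, ⊤) ⧸ p.asIdeal
  haveI : p.asIdeal.IsPrime := p.isPrime
  let aR : Spec (CommRingCat.of A) ⟶ Spec Γ(O.left, ⊤) :=
    Spec.map (CommRingCat.ofHom (Ideal.Quotient.mk p.asIdeal))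
  have hrange : Set.range aR = PrimeSpectrum.zeroLocus (p.asIdeal : Set Γ(O.left, ⊤)) :=
    (range_comap_of_surjective _ _ Ideal.Quotient.mk_surjective).trans (by rw [Ideal.mk_ker])
  haveI : IsClosedImmersion aR := IsClosedImmersion.spec_of_surjective _ Ideal.Quotient.mk_surjective
  have haR : IsClosedEmbedding aR := aR.isClosedEmbedding
  let aO : Spec (CommRingCat.of A) ⟶ O.left := aR ≫ O.left.isoSpec.inv
  have haO : ∀ v, O.left.isoSpec.hom (aO v) = aR v := fun v => by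
    rw [← Scheme.Hom.comp_apply, Category.assoc, Iso.inv_hom_id, Category.comp_id]
  let U : Over S := Over.mk (aO ≫ O.hom)
  let m : U ⟶ O := Over.homMk aO rfl
  haveI : IsAffine U.left := inferInstanceAs (IsAffine (Spec _))
  haveI : IsIntegral U.left := inferInstanceAs (IsIntegral (Spec _))
  let x := BasedFunctor.comp (AlgSt.overMap m) (BasedFunctor.comp z (FibCat.fpFst _ _))
  let y := BasedFunctor.comp (AlgSt.overMap m) (BasedFunctor.comp z (FibCat.fpSnd _ _))
  let D : Set ↥U.left := {v | ∃ q, φ q = aO v}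
  have hsub : PrimeSpectrum.zeroLocus (p.asIdeal : Set Γ(O.left, ⊤)) ⊆
      closure (Set.range (fun q => O.left.isoSpec.hom (φ q)) ∩
        PrimeSpectrum.zeroLocus (p.asIdeal : Set Γ(O.left, ⊤))) := fun r hr =>
    ((PrimeSpectrum.le_iff_specializes p r).1 hr).mem_closed isClosed_closure hp
  have hD : Dense D := fun v => by
    rw [haR.isInducing.closure_eq_preimage_closure_image]
    refine Set.mem_preimage.2 (closure_mono ?_ (hsub (hrange.subset ⟨v, rfl⟩)))
    rintro r ⟨⟨q, rfl⟩, hr⟩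
    obtain ⟨w, hw⟩ := hrange.superset hr
    refine ⟨w, ⟨q, O.left.isoSpec.hom.injective ?_⟩, hw⟩
    rw [haO, hw]
  obtain ⟨V, hV, ⟨α⟩⟩ := hii U inferInstance inferInstance x y D hD fun v hv => by
    obtain ⟨q, hq⟩ := hv
    obtain ⟨P, rfl⟩ := Points.mk_surjective q
    let k : Over.mk P.str ⟶ O := (a.hom.app _ P.val).down
    have hk0 : k.left (IsLocalRing.closedPoint P.K) = aO v := hq
    obtain ⟨g, hg⟩ := MonoQcLib.exists_lift_fromSpecResidueField aO (K := P.K) k.left ⟨v, hk0.symm⟩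
    have hgv : g (IsLocalRing.closedPoint P.K) = v := aO.injective (by
      rw [← Scheme.Hom.comp_apply, hg]; exact hk0)
    refine ⟨P.K, inferInstance, g, ?_, ?_⟩
    · ext t
      refine ⟨?_, fun ht => ⟨IsLocalRing.closedPoint P.K, hgv.trans ht.symm⟩⟩
      rintro ⟨s, rfl⟩
      rw [Subsingleton.elim (α := PrimeSpectrum P.K) s (IsLocalRing.closedPoint P.K)]
      exact hgv
    let g' : Over.mk (g ≫ U.hom) ⟶ U := Over.homMk g rfl
    let i₀ : Over.mk (g ≫ U.hom) ⟶ Over.mk P.str := Over.homMk (𝟙 _) (by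
      change 𝟙 _ ≫ P.str = g ≫ aO ≫ O.hom
      rw [Category.id_comp, ← Category.assoc, hg]
      exact (Over.w k).symm)
    let ξ₀ : (yon S).obj (Over.mk P.str) ⟶ H := (AlgSp.J S).uliftYonedaEquiv.symm P.val
    have hξ₀ : ξ₀ ≫ a = (yon S).map k := by
      apply (AlgSp.J S).uliftYonedaEquiv.injective
      rw [GrothendieckTopology.uliftYonedaEquiv_comp, Equiv.apply_symm_apply]
      apply ULift.ext
      exact (Category.id_comp k).symm
    have hgm : g' ≫ m = i₀ ≫ k := Over.OverMorphism.ext (by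
      change g ≫ aO = 𝟙 _ ≫ k.left
      rw [hg, Category.id_comp])
    obtain ⟨α⟩ := iso_of_section z hal ((yon S).map i₀ ≫ ξ₀) (g' ≫ m) (by
      rw [Category.assoc, hξ₀, ← Functor.map_comp, hgm])
    rw [AlgStLib.overMap_comp] at α
    exact ⟨α⟩
  -- an affine open on which the objects are isomorphic
  obtain ⟨v₀, hv₀⟩ : ∃ v₀, v₀ ∈ (V : Set ↥U.left) := hV.nonempty
  obtain ⟨V₀, hV₀, hvV₀, hV₀V⟩ := exists_isAffineOpen_mem_and_subset hv₀
  let T : Over S := Over.mk (V₀.ι ≫ U.hom)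
  haveI : IsAffine T.left := hV₀
  let i : T ⟶ U := Over.homMk V₀.ι rfl
  let r : T ⟶ Over.mk (V.ι ≫ U.hom) := Over.homMk (U.left.homOfLE (show V₀ ≤ V from hV₀V)) (by
    change U.left.homOfLE (show V₀ ≤ V from hV₀V) ≫ V.ι ≫ U.hom = V₀.ι ≫ U.hom
    rw [Scheme.homOfLE_ι_assoc])
  let ι₀ : Over.mk (V.ι ≫ U.hom) ⟶ U := Over.homMk V.ι rfl
  have hri : r ≫ ι₀ = i := Over.OverMorphism.ext (U.left.homOfLE_ι (show V₀ ≤ V from hV₀V))
  let α' : BasedFunctor.comp (AlgSt.overMap (i ≫ m)) (BasedFunctor.comp z (FibCat.fpFst _ _)) ≅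
      BasedFunctor.comp (AlgSt.overMap (i ≫ m)) (BasedFunctor.comp z (FibCat.fpSnd _ _)) :=
    eqToIso (by rw [← hri, Category.assoc, AlgStLib.overMap_comp, AlgStLib.overMap_comp]; rfl) ≪≫
      whiskerLeftIso' (AlgSt.overMap r) α ≪≫
      eqToIso (by rw [← hri, Category.assoc, AlgStLib.overMap_comp, AlgStLib.overMap_comp]; rfl)
  have sq := IsPullback.of_hasPullback a ((yon S).map (i ≫ m))
  haveI := compactSpace_of_iso z hi (i ≫ m) α'
    (a := pullback.snd a ((yon S).map (i ≫ m))) (hal.of_isPullback (isPullback_sheaf sq))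
  obtain ⟨W, hW, hWV⟩ := haR.isInducing.isOpen_iff.1 (V₀.2 : IsOpen (V₀ : Set ↥U.left))
  refine ⟨W, Set.range (Points.map (pullback.fst a ((yon S).map (i ≫ m)))), hW, ?_,
    isCompact_range (Points.continuous_map _), ?_⟩
  · exact ((PrimeSpectrum.le_iff_specializes p (aR v₀)).1
      (show p ≤ aR v₀ from hrange.subset ⟨v₀, rfl⟩)).mem_open hW (hWV.superset hvV₀)
  · rintro q ⟨hqW, hqp⟩
    obtain ⟨v, hv⟩ := hrange.superset hqp
    have hvV₀' : v ∈ (V₀ : Set ↥U.left) := hWV.subset (show aR v ∈ W by rw [hv]; exact hqW)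
    rw [range_map_of_isPullback sq.flip]
    refine ⟨Points.schemeHomeo T ⟨v, hvV₀'⟩, ?_⟩
    rw [Points.map_yon_map_apply]
    refine (congrArg _ ?_).trans ((Points.schemeHomeo O).apply_symm_apply (Points.map a q))
    exact O.left.isoSpec.hom.injective ((haO v).trans hv)

/-- The space of isomorphisms is quasi-compact over a locally Noetherian scheme. -/
theorem isQuasiCompactMor_of_along [IsFibGrpd 𝒳.p] (hi : AutQc 𝒳) (hii : GenericIso 𝒳)
    [IsLocallyNoetherian O.left] {H : Sp S} (hH : IsAlgSpace H) {a : H ⟶ (yon S).obj O}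
    (hal : Along (BasedFunctor.comp (AlgSt.toOverCat O) z) (FibCat.diag (FibCat.toSelf 𝒳)) a.hom) :
    IsQuasiCompactMor a := by
  have hO := IsAlgSpace.yon_obj (S := S) O
  let B : O.left.affineOpens → Over S := fun V => Over.mk (V.1.ι ≫ O.hom)
  let j : ∀ V, B V ⟶ O := fun V => Over.homMk V.1.ι rfl
  have hB := fun V => IsAlgSpace.yon_obj (S := S) (B V)
  have hP := fun V => isAlgSpace_pullback hH (hB V) hO a ((yon S).map (j V))
  refine (isLocalOnBase_fppf_of_fpqc (isLocalOnBase_fpqc_isQuasiCompactMor S) _ (fun V => (yon S).map (j V)) hO hB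
    (isFppfCover_of_charts _ (fun V => (repWith_yon_map_iff (P := (@Etale : MorphismProperty Scheme.{u})) (j V)).2
      (inferInstanceAs (Etale V.1.ι))) fun w => ?_) a hH _ (fun V => pullback.snd a ((yon S).map (j V)))
      (fun V => pullback.fst a ((yon S).map (j V))) hP (fun V => IsPullback.of_hasPullback _ _)).mpr fun V => ?_
  · obtain ⟨t, rfl⟩ := (Points.schemeHomeo O).surjective w
    obtain ⟨V, hV, htV, -⟩ := exists_isAffineOpen_mem_and_subset (U := ⊤) (x := t) trivial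
    exact ⟨⟨V, hV⟩, Points.schemeHomeo _ ⟨t, htV⟩, by rw [Points.map_yon_map_apply]; rfl⟩
  haveI : IsAffine (B V).left := V.2
  haveI : IsLocallyNoetherian (B V).left := inferInstanceAs (IsLocallyNoetherian (V.1 : Scheme.{u}))
  haveI : IsNoetherianRing Γ((B V).left, ⊤) := IsLocallyNoetherian.component_noetherian ⟨⊤, isAffineOpen_top _⟩
  haveI := compactSpace_of_along (BasedFunctor.comp (AlgSt.overMap (j V)) z) hi hii
    (a := pullback.snd a ((yon S).map (j V)))
    (hal.of_isPullback (isPullback_sheaf (IsPullback.of_hasPullback a ((yon S).map (j V)))))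
  have hqc := isQuasiCompactSp_of_compactSpace (hP V) inferInstance
  rw [isQuasiCompactMor_iff_affine (hP V) (hB V)]
  intro Z hZ g Q fst snd sq
  haveI := hZ
  obtain ⟨h, rfl⟩ := (yon S).map_surjective g
  haveI : QuasiCompact h.left := quasiCompact_of_compactSpace h.left
  exact isQuasiCompactMor_of_repWith (IsAlgSpace.yon_obj Z) (hB V)
    ((repWith_yon_map_iff (P := (@QuasiCompact : MorphismProperty Scheme.{u})) h).2 inferInstance)
    (hP V) hqc _ snd fst sq.flip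

theorem repByAlgSpWith_diag [IsLocallyNoetherian S] (h𝒳 : AlgSt.IsAlgStack Scheme.fppfPrecoverage 𝒳)
    (hlfp : ∀ (U : Over S) (x : FibCat.overCat U ⥤ᵇ 𝒳),
      AlgSt.RepByAlgSpWith (AlgSp.LocP @Smooth) x → LocallyOfFinitePresentation U.hom)
    (hi : AutQc 𝒳) (hii : GenericIso 𝒳) :
    AlgSt.RepByAlgSpWith IsQuasiCompactMor (FibCat.diag (FibCat.toSelf 𝒳)) := by
  haveI := isFibGrpd_of_isAlgStack h𝒳
  haveI := isFibGrpd_of_isAlgStack (AlgStLib.isAlgStack_selfOver (S := S))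
  haveI := full_id (selfOver (Over S) : AlgSt.Cat S)
  haveI := faithful_id (selfOver (Over S) : AlgSt.Cat S)
  obtain ⟨U, x, hx, hxs⟩ := h𝒳.atlas
  haveI := AlgStLib.isFibGrpd_overCat U
  haveI := AlgStLib.isFibGrpd_overCat (U ⨯ U)
  haveI : IsFibGrpd (fp (toSelf 𝒳) (toSelf 𝒳)).p := isFibGrpd_fp
  haveI : IsFibGrpd (fp (BasedFunctor.comp x (toSelf 𝒳)) (BasedFunctor.comp x (toSelf 𝒳))).p := isFibGrpd_fp
  let M : fp (toSelf (overCat U)) (toSelf (overCat U)) ⥤ᵇ
      fp (BasedFunctor.comp x (toSelf 𝒳)) (BasedFunctor.comp x (toSelf 𝒳)) :=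
    fpMap (a := BasedFunctor.id _) (b := BasedFunctor.id _) (c := BasedFunctor.id _)
      (F := BasedFunctor.comp x (toSelf 𝒳)) (G := BasedFunctor.comp x (toSelf 𝒳))
      (F' := toSelf (overCat U : AlgSt.Cat S)) (G' := toSelf (overCat U : AlgSt.Cat S))
      (nonempty_iso_selfOver _ _).some (nonempty_iso_selfOver _ _).some
  let E := BasedFunctor.comp (prodCmp U U) M
  have hE : IsEquivOver E := isEquivOver_comp (isEquivOver_prodCmp U U)
    (isEquivOver_fpMap _ _ (isEquivOver_id _) (isEquivOver_id _))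
  let z := BasedFunctor.comp E (pairBoth x x (toSelf 𝒳) (toSelf 𝒳))
  have hz : AlgSt.RepByAlgSpWith (LocP @Smooth) z :=
    UCValLib.repByAlgSpWith_equiv_comp hE (repByAlgSpWith_pairBoth x x _ _ good_smooth hx hx)
  have hzs : AlgSt.RepByAlgSpWith IsSurjectiveMor z :=
    UCValLib.repByAlgSpWith_equiv_comp hE (repByAlgSpWith_pairBoth x x _ _ good_surjective hxs hxs)
  haveI := hlfp U x hx
  haveI : LocallyOfFinitePresentation (U ⨯ U).hom := by
    rw [show (U ⨯ U).hom = (Over.prodLeftIsoPullback U U).hom ≫ pullback.fst U.hom U.hom ≫ U.hom from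
      ((congrArg (· ≫ U.hom) (Over.prodLeftIsoPullback_hom_fst U U)).trans (Over.w prod.fst)).symm.trans
        (Category.assoc _ _ _)]
    infer_instance
  haveI : IsLocallyNoetherian (U ⨯ U).left := LocallyOfFiniteType.isLocallyNoetherian (U ⨯ U).hom
  let zS := BasedFunctor.comp (AlgSt.toOverCat (U ⨯ U)) z
  haveI : IsFibGrpd (AlgSt.ofSch (U ⨯ U)).p := Stk.isFibGrpd_ofPsh _
  refine repByAlgSpWith_of_fppf_cover good_qc.bc
    (isLocalOnBase_fppf_of_fpqc (isLocalOnBase_fpqc_isQuasiCompactMor S)) h𝒳.diag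
    (z := zS) (repByAlgSpWith_toOverCat_comp (repByAlgSpWith_mono (fun _ _ _ _ _ h => locP_flat_of_smooth h) hz))
    (repByAlgSpWith_toOverCat_comp (repByAlgSpWith_mono (fun _ _ _ _ _ h => locP_lfp_of_smooth h) hz))
    (repByAlgSpWith_toOverCat_comp hzs) ?_
  obtain ⟨H, a, hH, hal⟩ := exists_along h𝒳.diag (IsAlgSpace.yon_obj (U ⨯ U)) zS
  have hq := isQuasiCompactMor_of_along z hi hii hH hal
  obtain ⟨e, he, ⟨β⟩⟩ := hal
  haveI : IsFibGrpd (fp zS (FibCat.diag (FibCat.toSelf 𝒳))).p := isFibGrpd_fp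
  haveI : IsFibGrpd (AlgSt.ofSp H).p := Stk.isFibGrpd_ofPsh _
  refine (repByAlgSpWith_square_iff (f := FibCat.fpFst zS (FibCat.diag (FibCat.toSelf 𝒳))) (f' := AlgSt.ofSpMap a)
    (a := e) (b := BasedFunctor.id _) he (isEquivOver_id _) β.symm _).mpr ?_
  exact repByAlgSpWith_ofSpMap hH (IsAlgSpace.yon_obj (U ⨯ U)) _ fun Z ξ =>
    good_qc.bc hH (IsAlgSpace.yon_obj _)
      (isAlgSpace_pullback hH (IsAlgSpace.yon_obj Z) (IsAlgSpace.yon_obj _) _ ξ)
      (IsAlgSpace.yon_obj Z) _ ξ _ _ (IsPullback.of_hasPullback _ ξ) hq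

end DiagQcLib
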