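import Mathlib.RingTheory.Spectrum.Prime.Noetherian
import Mathlib.RingTheory.Spectrum.Prime.Topology

/-!
# Compactness by Noetherian induction on the spectrum
-/

set_option autoImplicit false

universe u v

open Topology PrimeSpectrum

namespace DiagQcLib

/-- A space over the spectrum of a Noetherian ring is compact if it is compact over a neighbourhood in its closure
of each prime in the closure of the image. -/
theorem compactSpace_of_generic {R : Type u} [CommRing R] [IsNoetherianRing R] {T : Type v} [TopologicalSpace T]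
    (π : T → PrimeSpectrum R)
    (h : ∀ p : PrimeSpectrum R, p ∈ closure (Set.range π ∩ zeroLocus (p.asIdeal : Set R)) →
      ∃ (O : Set (PrimeSpectrum R)) (K : Set T), IsOpen O ∧ p ∈ O ∧ IsCompact K ∧
        π ⁻¹' (O ∩ zeroLocus (p.asIdeal : Set R)) ⊆ K) :
    CompactSpace T := by
  suffices H : ∀ I : Ideal R, ∃ K : Set T, IsCompact K ∧ π ⁻¹' zeroLocus (I : Set R) ⊆ K by
    obtain ⟨K, hK, hsub⟩ := H ⊥
    exact ⟨by simpa [Set.eq_univ_of_univ_subset (by simpa using hsub)] using hK⟩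
  intro I
  induction I using IsNoetherian.induction with
  | hgt I ih =>
    change ∀ J : Ideal R, J > I → _ at ih
    have hI0 : ∃ I' : Ideal R, I' = I := ⟨I, rfl⟩
    obtain ⟨I, rfl⟩ := hI0
    rcases eq_or_ne I ⊤ with rfl | hI
    · exact ⟨∅, isCompact_empty, by simp⟩
    by_cases hp : Ideal.IsPrime I
    swap
    · obtain ⟨a, ha, b, hb, hab⟩ : ∃ a ∉ I, ∃ b ∉ I, a * b ∈ I := by
        by_contra hcon
        push Not at hcon
        exact hp ⟨hI, fun {a b} hab => (em (a ∈ I)).imp id fun ha => by_contra fun hb => hcon a ha b hb hab⟩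
      obtain ⟨K₁, hK₁, h₁⟩ := ih _ (left_lt_sup.2 fun hle => ha (hle (Ideal.mem_span_singleton_self a)) :
        I < I ⊔ Ideal.span {a})
      obtain ⟨K₂, hK₂, h₂⟩ := ih _ (left_lt_sup.2 fun hle => hb (hle (Ideal.mem_span_singleton_self b)) :
        I < I ⊔ Ideal.span {b})
      refine ⟨K₁ ∪ K₂, hK₁.union hK₂, fun q hq => ?_⟩
      have hq' : I ≤ (π q).asIdeal := hq
      rcases (π q).isPrime.mem_or_mem (hq' hab) with hx | hx
      · exact Or.inl (h₁ (show (I ⊔ Ideal.span {a} : Ideal R) ≤ (π q).asIdeal from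
          sup_le hq' ((Ideal.span_singleton_le_iff_mem _).2 hx)))
      · exact Or.inr (h₂ (show (I ⊔ Ideal.span {b} : Ideal R) ≤ (π q).asIdeal from
          sup_le hq' ((Ideal.span_singleton_le_iff_mem _).2 hx)))
    let p : PrimeSpectrum R := ⟨I, hp⟩
    -- a closed subset of `V(I)` missing the generic point lies in a smaller vanishing locus
    have key : ∀ C : Set (PrimeSpectrum R), IsClosed C → p ∉ C →
        ∃ K : Set T, IsCompact K ∧ π ⁻¹' (C ∩ zeroLocus (I : Set R)) ⊆ K := by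
      intro C hC hpC
      obtain ⟨J, hJ⟩ := (isClosed_iff_zeroLocus_ideal _).1 hC
      have hlt : I < I ⊔ J := left_lt_sup.2 fun hle => hpC (hJ.symm ▸ (show J ≤ p.asIdeal from hle))
      obtain ⟨K, hK, hsub⟩ := ih _ hlt
      refine ⟨K, hK, fun q hq => hsub ?_⟩
      obtain ⟨hq₁, hq₂⟩ := hq
      rw [hJ] at hq₁
      exact show (I ⊔ J : Ideal R) ≤ (π q).asIdeal from sup_le hq₂ hq₁
    by_cases hd : p ∈ closure (Set.range π ∩ zeroLocus (I : Set R))
    · obtain ⟨O, K, hO, hpO, hK, hsub⟩ := h p hd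
      obtain ⟨K', hK', hsub'⟩ := key Oᶜ hO.isClosed_compl fun hn => hn hpO
      refine ⟨K ∪ K', hK.union hK', fun q hq => ?_⟩
      by_cases hqO : π q ∈ O
      · exact Or.inl (hsub ⟨hqO, hq⟩)
      · exact Or.inr (hsub' ⟨hqO, hq⟩)
    · obtain ⟨K, hK, hsub⟩ := key _ isClosed_closure hd
      exact ⟨K, hK, fun q hq => hsub ⟨subset_closure ⟨⟨q, rfl⟩, hq⟩, hq⟩⟩

end DiagQcLib
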